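import Groth.Agent.L22.ExtSh.LinDerived
import Groth.Agent.L22.ExtSh.Coherence
import Groth.Agent.L16.RelExt.Leray
import Groth.Agent.L17.BC.GammaCorep
import Groth.Agent.L16.CohLinear
import Groth.Agent.L16.ProjSpace.SerreVanishing
import Groth.Agent.L10.TopCoh

/-!
`Ext` as sections of the `Ext` sheaf when the `Ext` sheaves are acyclic.
-/

set_option autoImplicit false
set_option linter.style.haveILetI false
set_option backward.isDefEq.respectTransparency false
set_option backward.isDefEq.respectTransparency.types false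

universe u

open CategoryTheory CategoryTheory.Limits CategoryTheory.Abelian AlgebraicGeometry TopologicalSpace Opposite

noncomputable section

namespace Groth.L22.ExtLoc

open Groth.L16 (CohLinear.hmap CohLinear.delta)
open Groth.L17.BC.Exchange (H0Γ H0ΓLin H0Γ_natural)
open Groth.L16.HomSh (globalEquiv homModF post secEquiv ev)
open Groth.L22.ExtSh (linHom)

variable {X : Scheme.{u}}

/-- Vanishing of the higher cohomology. -/
def Acy (M : X.Modules) : Prop := ∀ p : ℕ, 0 < p → Subsingleton (Coh.HH X M p)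

theorem Acy.of_iso {M N : X.Modules} (e : M ≅ N) (h : Acy N) : Acy M := fun p hp =>
  Groth.L16.ProjSpace.subsingleton_of_iso e p (h p hp)

theorem acy_X₃ {S : ShortComplex X.Modules} (hS : S.ShortExact) (h1 : Acy S.X₁) (h2 : Acy S.X₂) : Acy S.X₃ := by
  intro p hp
  haveI := h2 p hp
  haveI := h1 (p + 1) (by omega)
  refine subsingleton_of_forall_eq 0 fun y => ?_
  obtain ⟨x, rfl⟩ := (Groth.L16.CohLinear.exact_hmap_delta hS p y).1 (Subsingleton.elim _ _)
  rw [Subsingleton.elim x 0, map_zero]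

theorem acy_X₂ {S : ShortComplex X.Modules} (hS : S.ShortExact) (h1 : Acy S.X₁) (h3 : Acy S.X₃) : Acy S.X₂ := by
  intro p hp
  haveI := h1 p hp
  haveI := h3 p hp
  refine subsingleton_of_forall_eq 0 fun y => ?_
  obtain ⟨x, rfl⟩ := (Groth.L16.CohLinear.exact_hmap_hmap hS p y).1 (Subsingleton.elim _ _)
  rw [Subsingleton.elim x 0, map_zero]

theorem acy_of_flasque {M : X.Modules} (h : TopCat.Sheaf.IsFlasque (Coh.toAb M)) : Acy M := by
  intro p hp
  obtain ⟨q, rfl⟩ : ∃ q, p = q + 1 := ⟨p - 1, by omega⟩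
  exact Groth.L10.TopCoh.subsingleton_H_of_flasque (Coh.toAb M) h q

section Gamma

variable (A : Type u) [CommRing A] [X.Over (Spec (CommRingCat.of A))]

/-- Global sections. -/
abbrev gs : X.Modules ⥤ ModuleCat.{u} A := CohIII.globalSectionsA A

instance preservesFiniteLimits_gs : PreservesFiniteLimits (gs (X := X) A) := by
  haveI : (moduleSpecΓFunctor (R := CommRingCat.of A)).IsRightAdjoint := tilde.adjunction.isRightAdjoint
  haveI : (Scheme.Modules.pushforward (X ↘ Spec (CommRingCat.of A))).IsRightAdjoint :=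
    (Scheme.Modules.pullbackPushforwardAdjunction _).isRightAdjoint
  exact comp_preservesFiniteLimits _ _

instance additive_gs : (gs (X := X) A).Additive := Functor.additive_of_preserves_binary_products _

theorem isFlasque_homMod (F I : X.Modules) [ModSite.HasSheafHom (O := X.sheaf) F] [Injective I] :
    TopCat.Sheaf.IsFlasque (Coh.toAb ((Groth.L17.ChangeRings.homMod F).obj I)) := by
  refine ⟨fun {U V} i => ?_⟩
  rw [AddCommGrpCat.epi_iff_surjective]
  exact Groth.L16.RelExt.surjective_res_homMod F I _ _ (leOfHom i.unop)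

theorem epi_gs {S : ShortComplex X.Modules} (hS : S.ShortExact) (h1 : Acy S.X₁) : Epi ((gs A).map S.g) := by
  rw [ModuleCat.epi_iff_surjective]
  intro y
  obtain ⟨x, rfl⟩ := (H0ΓLin (A := A) S.X₃).surjective y
  haveI := h1 1 one_pos
  obtain ⟨w, hw⟩ := (Groth.L16.CohLinear.exact_hmap_delta hS 0 x).1
    (@Subsingleton.elim (Coh.HH X S.X₁ (0 + 1)) this _ _)
  exact ⟨H0ΓLin (A := A) S.X₂ w, ((H0Γ_natural (A := A) S.g w).symm.trans
    (congrArg (H0Γ (A := A) S.X₃) hw))⟩

/-- The sequence `kernel f → X₁ → kernel π`. -/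
def T₁ (S : ShortComplex X.Modules) (D : S.LeftHomologyData) : ShortComplex X.Modules :=
  ShortComplex.mk (kernel.ι S.f) (kernel.lift D.π D.f' D.f'_π) (by
    rw [← cancel_mono (kernel.ι D.π), Category.assoc, kernel.lift_ι, ← cancel_mono D.i, Category.assoc,
      D.f'_i, zero_comp, zero_comp, kernel.condition])

theorem shortExact_T₁ (S : ShortComplex X.Modules) (D : S.LeftHomologyData) : (T₁ S D).ShortExact := by
  have hex : (ShortComplex.mk D.f' D.π D.f'_π).Exact := ShortComplex.exact_of_g_is_cokernel _ D.hπ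
  haveI : Epi (kernel.lift D.π D.f' D.f'_π) := hex.epi_kernelLift
  have hf : kernel.lift D.π D.f' D.f'_π ≫ kernel.ι D.π ≫ D.i = S.f := by
    rw [kernel.lift_ι_assoc, D.f'_i]
  haveI : Mono (T₁ S D).f := inferInstanceAs (Mono (kernel.ι S.f))
  refine { exact := ShortComplex.exact_of_f_is_kernel _ ?_, mono_f := inferInstanceAs (Mono (kernel.ι S.f)),
           epi_g := inferInstanceAs (Epi (kernel.lift D.π D.f' D.f'_π)) }
  refine KernelFork.IsLimit.ofι' _ _ fun {Z} g hg => ⟨kernel.lift S.f g ?_, kernel.lift_ι _ _ _⟩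
  rw [← hf]
  exact (Category.assoc _ _ _).symm.trans ((congrArg (· ≫ kernel.ι D.π ≫ D.i) hg).trans zero_comp)

/-- The sequence `kernel π → K → H`. -/
def T₂ (S : ShortComplex X.Modules) (D : S.LeftHomologyData) : ShortComplex X.Modules :=
  ShortComplex.mk (kernel.ι D.π) D.π (kernel.condition _)

theorem shortExact_T₂ (S : ShortComplex X.Modules) (D : S.LeftHomologyData) : (T₂ S D).ShortExact :=
  { exact := ShortComplex.exact_kernel D.π, mono_f := inferInstanceAs (Mono (kernel.ι D.π)),
    epi_g := inferInstanceAs (Epi D.π) }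

/-- A left exact functor commutes with homology under two surjectivity conditions. -/
theorem nonempty_homology_iso {C D : Type*} [Category C] [Category D] [Abelian C] [Abelian D] (G : C ⥤ D) [G.Additive]
    [PreservesFiniteLimits G] (S : ShortComplex C) (h : S.LeftHomologyData) {K' : C} (f : K' ⟶ h.K) (w : f ≫ h.π = 0)
    (hT : (ShortComplex.mk f h.π w).ShortExact) [Epi (G.map h.π)]
    (l : S.X₁ ⟶ K') [Epi (G.map l)] (el : l ≫ f = h.f') :
    Nonempty ((S.map G).homology ≅ G.obj S.homology) := by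
  haveI : Mono f := hT.mono_f
  have hex := hT.exact.map_of_mono_of_preservesKernel G inferInstance inferInstance
  haveI : Epi ((ShortComplex.mk f h.π w).map G).g := inferInstanceAs (Epi (G.map h.π))
  have hc : IsColimit (CokernelCofork.ofπ (G.map h.π)
      (show G.map h.f' ≫ G.map h.π = 0 by rw [← Functor.map_comp, h.f'_π, Functor.map_zero])) :=
    isCokernelEpiComp hex.gIsCokernel (G.map l) (by rw [← el, Functor.map_comp]; rfl)
  haveI : h.IsPreservedBy G :=
    { g := inferInstance
      f' := preservesColimit_of_preserves_colimit_cocone h.hπ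
        ((CokernelCofork.isColimitMapCoconeEquiv _ G).symm hc) }
  exact ⟨(h.map G).homologyIso ≪≫ (G.mapIso h.homologyIso).symm⟩

/-- Global sections commute with homology. -/
theorem nonempty_homology_map (S : ShortComplex X.Modules) (D : S.LeftHomologyData) (hk : Acy (kernel S.f))
    (h1 : Acy S.X₁) : Nonempty ((S.map (gs A)).homology ≅ (gs A).obj S.homology) := by
  have hT₁ := shortExact_T₁ S D
  have hT₂ := shortExact_T₂ S D
  have hK : Acy (kernel D.π) := @acy_X₃ X (T₁ S D) hT₁ hk h1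
  have e2 : (T₂ S D).g = D.π := rfl
  have e1 : (T₁ S D).g = kernel.lift D.π D.f' D.f'_π := rfl
  haveI i2 : Epi ((gs A).map D.π) := @epi_gs X A _ _ (T₂ S D) hT₂ hK
  haveI i1 : Epi ((gs A).map (kernel.lift D.π D.f' D.f'_π)) := @epi_gs X A _ _ (T₁ S D) hT₁ hk
  exact @nonempty_homology_iso X.Modules (ModuleCat.{u} A) _ _ _ _ (gs A) _ _ S D (kernel D.π) (kernel.ι D.π)
    (kernel.condition D.π) hT₂ i2 (kernel.lift D.π D.f' D.f'_π) i1 (kernel.lift_ι _ _ _)

/-- Acyclicity of cycles propagates. -/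
theorem acy_cycles (S : ShortComplex X.Modules) (hk : Acy (kernel S.f)) (h1 : Acy S.X₁) (hH : Acy S.homology) :
    Acy (kernel S.g) := by
  let D := S.leftHomologyData
  have hK : Acy D.K := acy_X₂ (shortExact_T₂ S D) (acy_X₃ (shortExact_T₁ S D) hk h1) (hH.of_iso D.homologyIso.symm)
  exact hK.of_iso ((limit.isLimit (parallelPair S.g 0)).conePointUniqueUpToIso D.hi)

theorem acy_kernel_d (J : CochainComplex X.Modules ℕ) (hJ : ∀ q, Acy (J.X q)) :
    ∀ q, (∀ j ≤ q, Acy (J.homology j)) → Acy (kernel (J.d q (q + 1)))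
  | 0, h => by
    refine acy_cycles (J.sc' 0 0 1) ?_ (hJ 0) ((h 0 le_rfl).of_iso (J.homologyIsoSc' 0 0 1 (by simp) (by simp)).symm)
    have h0 : (J.sc' 0 0 1).f = 0 := J.shape _ _ (by simp)
    exact (hJ 0).of_iso (kernelIsoOfEq h0 ≪≫ kernelZeroIsoSource)
  | q + 1, h => by
    refine acy_cycles (J.sc' q (q + 1) (q + 1 + 1)) (acy_kernel_d J hJ q fun j hj => h j (by omega)) (hJ q)
      ((h (q + 1) le_rfl).of_iso (J.homologyIsoSc' q (q + 1) (q + 1 + 1) (by simp) (by simp)).symm)

theorem nonempty_homology_gs (J : CochainComplex X.Modules ℕ) (hJ : ∀ q, Acy (J.X q)) (m : ℕ)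
    (h : ∀ j ≤ m, Acy (J.homology j)) :
    Nonempty ((((gs A).mapHomologicalComplex _).obj J).homology m ≅ (gs A).obj (J.homology m)) := by
  obtain ⟨i, hi, hk⟩ : ∃ i, (ComplexShape.up ℕ).prev m = i ∧ Acy (kernel (J.d i m)) := by
    cases m with
    | zero =>
      exact ⟨0, by simp, (hJ 0).of_iso (kernelIsoOfEq (J.shape 0 0 (by simp)) ≪≫ kernelZeroIsoSource)⟩
    | succ q => exact ⟨q, by simp, acy_kernel_d J hJ q fun j hj => h j (by omega)⟩
  obtain ⟨e⟩ := nonempty_homology_map A (J.sc' i m (m + 1)) (J.sc' i m (m + 1)).leftHomologyData hk (hJ i)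
  exact ⟨(((gs A).mapHomologicalComplex _).obj J).homologyIsoSc' i m (m + 1) hi (by simp) ≪≫ e ≪≫
    ((gs A).mapIso (J.homologyIsoSc' i m (m + 1) hi (by simp))).symm⟩

theorem gs_smul (M : X.Modules) (a : A) (s : (gs A).obj M) :
    a • s = (show (gs A).obj M from (Formal.smulMod A M a).app ⊤ s) := by
  symm
  show (Formal.smulModΓ M _).app ⊤ s = _
  rw [Groth.L16.Rees.smulModΓ_app]
  exact congrArg (fun c : Γ(X, ⊤) => c • (show Γ(M, ⊤) from s))
    (Groth.L18.Frame.ro_self (le_rfl : (⊤ : X.Opens) ≤ ⊤) _)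

theorem globalEquiv_smul (F I : X.Modules) (a : A) (φ : F ⟶ I) :
    globalEquiv F I (a • φ) = (Formal.smulMod A (Groth.L16.HomSh.homMod F I) a).app ⊤ (globalEquiv F I φ) := by
  refine Groth.L16.HomSh.sec_ext fun W h x => ?_
  show (a • φ).app W x = _
  rw [KLin.smul_app_apply]
  show _ = ev (secEquiv ⊤ ((Formal.smulModΓ _ _).app ⊤ (globalEquiv F I φ))) h x
  rw [KLin.smulModΓ_app_apply, map_smul, Groth.L16.HomSh.ev_smulSec]
  refine congrArg (fun c : Γ(X, W) => c • φ.app W x) ?_
  show _ = Groth.L18.Frame.ro h (Groth.L18.Frame.ro (le_rfl : (⊤ : X.Opens) ≤ ⊤) _)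
  rw [Groth.L18.Frame.ro_self]

/-- Morphisms are global sections of the sheaf of homomorphisms, linearly and naturally. -/
def homGs (F : X.Modules) : linHom A F ≅ homModF F ⋙ gs A :=
  NatIso.ofComponents (fun I => ({ globalEquiv F I with
      map_smul' := fun a φ => (globalEquiv_smul A F I a φ).trans (gs_smul A _ a _).symm } :
        (F ⟶ I) ≃ₗ[A] ((gs A).obj ((homModF F).obj I) : Type u)).toModuleIso)
    fun {I I'} g => ModuleCat.hom_ext (LinearMap.ext fun φ => Groth.L16.HomSh.globalEquiv_comp F I φ g)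

set_option maxHeartbeats 1600000 in
/-- `Ext` is the global sections of the `Ext` sheaf when the lower `Ext` sheaves are acyclic. -/
theorem nonempty_ext_linEquiv [HasExt.{u} X.Modules] (F M : X.Modules) [ModSite.HasSheafHom (O := X.sheaf) F]
    [HasInjectiveResolutions (ModSite.Mod X.sheaf)] (m : ℕ)
    (h : ∀ q ≤ m, Acy ((ModSite.extSh (O := X.sheaf) F q).obj M)) :
    Nonempty (Ext F M m ≃ₗ[A] Coh.HH X ((ModSite.extSh (O := X.sheaf) F m).obj M) 0) := by
  haveI : HasInjectiveResolutions X.Modules := ‹HasInjectiveResolutions (ModSite.Mod X.sheaf)›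
  haveI := Groth.L22.ExtSh.additive_homModF F
  let I := injectiveResolution M
  let J := ((homModF F).mapHomologicalComplex _).obj I.cocomplex
  have hJ : ∀ q, Acy (J.X q) := fun q =>
    (acy_of_flasque (isFlasque_homMod F (I.cocomplex.X q))).of_iso
      ((Groth.L22.ExtSh.homModSiteIso F).app _).symm
  have eH : ∀ q, Nonempty ((ModSite.extSh (O := X.sheaf) F q).obj M ≅ J.homology q) := fun q =>
    (Groth.L22.ExtSh.nonempty_extSh_iso F M q).map fun e => e ≪≫ I.isoRightDerivedObj (homModF F) q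
  obtain ⟨e⟩ := nonempty_homology_gs A J hJ m fun j hj => (h j hj).of_iso (eH j).some.symm
  obtain ⟨eL⟩ := Groth.L22.ExtSh.nonempty_rightDerived_linHom A F M m
  let c : ((linHom A F).mapHomologicalComplex _).obj I.cocomplex ≅ ((gs A).mapHomologicalComplex _).obj J :=
    (NatIso.mapHomologicalComplex (homGs A F) (ComplexShape.up ℕ)).app I.cocomplex
  let e' : ((linHom A F).rightDerived m).obj M ≅ (gs A).obj ((ModSite.extSh (O := X.sheaf) F m).obj M) :=
    I.isoRightDerivedObj (linHom A F) m ≪≫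
      (HomologicalComplex.homologyFunctor _ (ComplexShape.up ℕ) m).mapIso c ≪≫ e ≪≫ (gs A).mapIso (eH m).some.symm
  exact ⟨eL.symm ≪≫ₗ e'.toLinearEquiv ≪≫ₗ (H0ΓLin _).symm⟩

end Gamma

end Groth.L22.ExtLoc
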