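import Groth.Agent.L22.ExtLoc.Homological
import Groth.Agent.L22.ExtSh.Coherence
import Groth.Agent.L22.PDual.LocFreeLow
import Groth.Agent.L22.PDual.CMVanish
import Groth.Agent.L17.Duality
import Groth.Agent.L10.RestrExact
import Groth.Agent.L16.AffineBC.Pullback
import Groth.Agent.L29.DCoh.PullTensor

/-!
`Ext` into a large twist is the sections of the `Ext` sheaf.
-/

set_option autoImplicit false
set_option linter.style.haveILetI false
set_option backward.isDefEq.respectTransparency false
set_option backward.isDefEq.respectTransparency.types false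

universe u

open CategoryTheory CategoryTheory.Limits CategoryTheory.Abelian AlgebraicGeometry TopologicalSpace Opposite

noncomputable section

namespace Groth.L22.ExtLoc

open Groth.L17.ChangeRings (homMod)
open Groth.L22.Reg (O')
open Groth.L00.Tensor (tensorComm)

variable {X : Scheme.{u}}

set_option maxHeartbeats 800000 in
/-- `Ext` sheaves commute with invertible twists. -/
theorem nonempty_extSh_twist {L L' : X.Modules} (hL' : FlatMod.IsFinLocFree L')
    (e : CohB1.tensorMod L' L ≅ Coh.structureModule X) (F G : X.Modules) [ModSite.HasSheafHom (O := X.sheaf) F]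
    [HasInjectiveResolutions (ModSite.Mod X.sheaf)] (q : ℕ) :
    Nonempty ((ModSite.extSh (O := X.sheaf) F q).obj (CohB1.tensorMod G L) ≅
      CohB1.tensorMod ((ModSite.extSh (O := X.sheaf) F q).obj G) L) := by
  haveI : HasInjectiveResolutions X.Modules := ‹HasInjectiveResolutions (ModSite.Mod X.sheaf)›
  haveI := Groth.L17.Duality.hasSheafHom L'
  haveI := Groth.L17.Duality.hasSheafHom (CohB1.tensorMod F L')
  haveI := Groth.L17.Duality.hasSheafHom (CohB1.tensorMod L' F)
  obtain ⟨c⟩ := Groth.L22.PDual.nonempty_homMod_invertible e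
  haveI := Groth.L17.Duality.preservesFiniteColimits_homMod L' hL'
  haveI : (homMod L').IsRightAdjoint := (ModSite.sheafHomAdj (O := X.sheaf) L').isRightAdjoint
  haveI : PreservesFiniteLimits (homMod L') := inferInstance
  obtain ⟨r⟩ := Groth.L10.Restr.nonempty_rightDerived_exact_comp (homMod L')
    (fun I hI => @Groth.L17.Duality.injective_homMod X L' _ hL' I hI) (homMod F) G q
  haveI : (homMod F ⋙ homMod L').Additive := inferInstance
  haveI : (homMod L' ⋙ homMod F).Additive := inferInstance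
  let φ : homMod L' ⋙ homMod F ≅ homMod F ⋙ homMod L' :=
    Groth.L17.Duality.homTensorIso F L' ≪≫ Groth.L17.Duality.homCongr (tensorComm L' F) ≪≫
      (Groth.L17.Duality.homTensorIso L' F).symm
  exact ⟨((homMod F).rightDerived q).mapIso (c.app G).symm ≪≫ r.symm ≪≫
    (Groth.L10.SiteCoh.rightDerivedCongr φ q).app G ≪≫
    Groth.L10.SiteCoh.rightDerivedCompIso (homMod F) (homMod L') q G ≪≫ c.app _⟩

variable {A : Type u} [CommRing A] {n : ℕ}

theorem subsingleton_of_push (ι : X ⟶ CohB1.ProjSpace n A) [IsClosedImmersion ι] (M : X.Modules) (d : ℤ) (p : ℕ)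
    (h : Subsingleton (Coh.HH (CohB1.ProjSpace n A)
      (CohB1.tensorMod (Twist.twistProjSpace n A d) ((Coh.push ι).obj M)) p)) :
    Subsingleton (Coh.HH X (CohB1.tensorMod M ((Scheme.Modules.pullback ι).obj (O' n A d))) p) := by
  let e : CohB1.tensorMod (Twist.twistProjSpace n A d) ((Coh.push ι).obj M) ≅
      (Coh.push ι).obj (CohB1.tensorMod M ((Scheme.Modules.pullback ι).obj (O' n A d))) :=
    (Groth.L17.ProjFormula.projIso ι (O' n A d) (Groth.L20.ResDescent.isFinLocFree_of_isInvertible
        (Groth.L16.ProjTwist.isInvertible_twistProjSpace n A d))).app M ≪≫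
      (Coh.push ι).mapIso (tensorComm _ _)
  obtain ⟨e'⟩ := Groth.L17.nonempty_HH_push_of_isClosedImmersion ι
    (CohB1.tensorMod M ((Scheme.Modules.pullback ι).obj (O' n A d))) p
  haveI := Groth.L16.ProjSpace.subsingleton_of_iso e.symm p h
  first | exact e'.toEquiv.symm.subsingleton | exact e'.toEquiv.subsingleton | exact e'.toEquiv.subsingleton_congr.1 this | exact e'.toEquiv.subsingleton_congr.2 this

theorem exists_acy_twist [IsNoetherianRing A] (ι : X ⟶ CohB1.ProjSpace n A) [IsClosedImmersion ι]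
    {M : X.Modules} (hM : Coh.IsCoh M) :
    ∃ d₀ : ℕ, ∀ d : ℕ, d₀ ≤ d → Acy (CohB1.tensorMod M ((Scheme.Modules.pullback ι).obj (O' n A (d : ℤ)))) := by
  obtain ⟨d₀, hd⟩ := Groth.L16.ProjSpace.exists_vanishing n A _ (Groth.L16.CohClosedPush.isCoh_push ι hM)
  exact ⟨d₀, fun d hdd p hp => subsingleton_of_push ι M d p (hd d hdd p hp)⟩

set_option maxHeartbeats 800000 in
/-- The main theorem. -/
theorem exists_ext_linEquiv [IsNoetherianRing A] [X.Over (Spec (CommRingCat.of A))]
    (ι : X ⟶ CohB1.ProjSpace n A) [IsClosedImmersion ι] [HasExt.{u} X.Modules] (F G : X.Modules)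
    (hF : Coh.IsCoh F) (hG : Coh.IsCoh G) [ModSite.HasSheafHom (O := X.sheaf) F]
    [HasInjectiveResolutions (ModSite.Mod X.sheaf)] (m : ℕ) :
    ∃ d₀ : ℕ, ∀ d : ℕ, d₀ ≤ d →
      Nonempty (Abelian.Ext F (CohB1.tensorMod G ((Scheme.Modules.pullback ι).obj (O' n A (d : ℤ)))) m ≃ₗ[A]
        Coh.HH X ((ModSite.extSh (O := X.sheaf) F m).obj
          (CohB1.tensorMod G ((Scheme.Modules.pullback ι).obj (O' n A (d : ℤ))))) 0) := by
  haveI : IsLocallyNoetherian (CohB1.ProjSpace n A) := by
    haveI : LocallyOfFiniteType (CohB1.ProjSpace.toSpec n A) :=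
      haveI := Groth.L16.ProjSpace.isProper_toSpec n A
      inferInstance
    exact LocallyOfFiniteType.isLocallyNoetherian (CohB1.ProjSpace.toSpec n A)
  haveI : IsLocallyNoetherian X := LocallyOfFiniteType.isLocallyNoetherian ι
  choose f hf using fun q : ℕ => exists_acy_twist ι (Groth.L22.ExtSh.isCoh_extSh hF hG q)
  refine ⟨(Finset.range (m + 1)).sup f, fun d hd => nonempty_ext_linEquiv A F _ m fun q hq => ?_⟩
  obtain ⟨a⟩ := Groth.L22.Reg.nonempty_O_add (n := n) (R := A) (show -(d : ℤ) + (d : ℤ) = 0 by omega)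
  obtain ⟨b⟩ := Groth.L22.Reg.nonempty_O_zero n A
  let e : CohB1.tensorMod ((Scheme.Modules.pullback ι).obj (O' n A (-(d : ℤ))))
      ((Scheme.Modules.pullback ι).obj (O' n A (d : ℤ))) ≅ Coh.structureModule X :=
    Groth.L29.DC.PullTensor.pullTensor ι _ _ ≪≫ (Scheme.Modules.pullback ι).mapIso (a ≪≫ b) ≪≫
      Groth.L29.LocFree.pullbackUnitIso ι
  have hL' : FlatMod.IsFinLocFree ((Scheme.Modules.pullback ι).obj (O' n A (-(d : ℤ)))) :=
    Groth.L29.LocFree.pullback ι
      (Groth.L20.ResDescent.isFinLocFree_of_isInvertible (Groth.L16.ProjTwist.isInvertible_twistProjSpace n A _))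
  obtain ⟨i⟩ := nonempty_extSh_twist hL' e F G q
  exact (hf q d ((Finset.le_sup (Finset.mem_range.2 (by omega : q < m + 1))).trans hd)).of_iso i

end Groth.L22.ExtLoc
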